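import Mathlib
import Cfsg.Agent.Classical.SympGroup

/-! The stabiliser of a vector in the symplectic group of dimension four over a field of three
elements, written as products of a Heisenberg matrix and a Levi matrix. -/

set_option autoImplicit false

namespace Cfsg.Agent.Cent648

open Matrix

variable {F : Type*} [Field F]

/-- The Heisenberg matrix with parameters `(u₀, u₁, c)`. -/
def heis (u0 u1 c : F) : Matrix (Fin 2 ⊕ Fin 2) (Fin 2 ⊕ Fin 2) F :=
  fromBlocks !![1, -u1; 0, 1] !![c, u0; u0, 0] 0 !![1, 0; u1, 1]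

/-- The Levi matrix with the given two by two block. -/
def levi (M : Matrix (Fin 2) (Fin 2) F) : Matrix (Fin 2 ⊕ Fin 2) (Fin 2 ⊕ Fin 2) F :=
  fromBlocks !![1, 0; 0, M 0 0] !![0, 0; 0, M 0 1] !![0, 0; 0, M 1 0] !![1, 0; 0, M 1 1]

theorem heis_mul (a b c a' b' c' : F) :
    heis a b c * heis a' b' c' = heis (a + a') (b + b') (c + c' + a * b' - b * a') := by
  ext i j
  rcases i with i | i <;> rcases j with j | j <;> fin_cases i <;> fin_cases j <;>
    simp [heis, Matrix.mul_apply, Fin.sum_univ_two] <;> ring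

theorem levi_mul (M N : Matrix (Fin 2) (Fin 2) F) : levi M * levi N = levi (M * N) := by
  ext i j
  rcases i with i | i <;> rcases j with j | j <;> fin_cases i <;> fin_cases j <;>
    simp [levi, Matrix.mul_apply, Fin.sum_univ_two]

theorem levi_one : levi (1 : Matrix (Fin 2) (Fin 2) F) = 1 := by
  ext i j
  rcases i with i | i <;> rcases j with j | j <;> fin_cases i <;> fin_cases j <;> simp [levi]

theorem heis_zero : heis (0 : F) 0 0 = 1 := by
  ext i j
  rcases i with i | i <;> rcases j with j | j <;> fin_cases i <;> fin_cases j <;> simp [heis]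

theorem levi_heis (M : Matrix (Fin 2) (Fin 2) F) (hM : M.det = 1) (a b c : F) :
    levi M * heis a b c = heis (M 0 0 * a + M 0 1 * b) (M 1 0 * a + M 1 1 * b) c * levi M := by
  rw [Matrix.det_fin_two] at hM
  ext i j
  rcases i with i | i <;> rcases j with j | j <;> fin_cases i <;> fin_cases j <;>
    simp [heis, levi, Matrix.mul_apply, Fin.sum_univ_two] <;>
    first
      | ring1
      | linear_combination (-b) * hM
      | linear_combination b * hM
      | linear_combination (-a) * hM
      | linear_combination a * hM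

theorem heis_mem (a b c : F) : heis a b c ∈ Matrix.symplecticGroup (Fin 2) F := by
  rw [SymplecticGroup.mem_iff']
  ext i j
  rcases i with i | i <;> rcases j with j | j <;> fin_cases i <;> fin_cases j <;>
    simp [heis, Matrix.J, fromBlocks_transpose, Matrix.mul_apply,
      Fin.sum_univ_two] <;> ring

theorem levi_mem (M : Matrix (Fin 2) (Fin 2) F) (hM : M.det = 1) :
    levi M ∈ Matrix.symplecticGroup (Fin 2) F := by
  rw [SymplecticGroup.mem_iff']
  rw [Matrix.det_fin_two] at hM
  ext i j
  rcases i with i | i <;> rcases j with j | j <;> fin_cases i <;> fin_cases j <;>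
    simp [levi, Matrix.J, fromBlocks_transpose, Matrix.mul_apply,
      Fin.sum_univ_two] <;>
    first
      | ring1
      | linear_combination hM
      | linear_combination (-1 : F) * hM

/-- The parameters of a product of a Heisenberg matrix and a Levi matrix can be read off. -/
theorem params {a b c a' b' c' : F} {M N : Matrix (Fin 2) (Fin 2) F}
    (h : heis a b c * levi M = heis a' b' c' * levi N) : a = a' ∧ b = b' ∧ c = c' ∧ M = N := by
  have e := fun i j => congrFun (congrFun h i) j
  have h1 := e (Sum.inl 1) (Sum.inr 0)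
  have h2 := e (Sum.inr 1) (Sum.inr 0)
  have h3 := e (Sum.inl 0) (Sum.inr 0)
  have h4 := e (Sum.inl 1) (Sum.inl 1)
  have h5 := e (Sum.inl 1) (Sum.inr 1)
  have h6 := e (Sum.inr 1) (Sum.inl 1)
  have h7 := e (Sum.inr 1) (Sum.inr 1)
  simp [heis, levi, Matrix.mul_apply, Fin.sum_univ_two] at h1 h2 h3 h4 h5 h6 h7
  refine ⟨h1, h2, h3, ?_⟩
  ext i j
  fin_cases i <;> fin_cases j <;> assumption

/-- A symplectic matrix fixing the first basis vector is a Heisenberg matrix times a Levi
matrix. -/
theorem exists_params {A : Matrix (Fin 2 ⊕ Fin 2) (Fin 2 ⊕ Fin 2) F}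
    (hA : A ∈ Matrix.symplecticGroup (Fin 2) F)
    (h00 : A (Sum.inl 0) (Sum.inl 0) = 1) (h10 : A (Sum.inl 1) (Sum.inl 0) = 0)
    (h20 : A (Sum.inr 0) (Sum.inl 0) = 0) (h30 : A (Sum.inr 1) (Sum.inl 0) = 0) :
    ∃ a b c : F, ∃ M : Matrix (Fin 2) (Fin 2) F, M.det = 1 ∧ A = heis a b c * levi M := by
  rw [SymplecticGroup.mem_iff'] at hA
  have e := fun i j => congrFun (congrFun hA i) j
  have p01 := e (Sum.inl 0) (Sum.inl 1)
  have p02 := e (Sum.inl 0) (Sum.inr 0)
  have p03 := e (Sum.inl 0) (Sum.inr 1)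
  have p12 := e (Sum.inl 1) (Sum.inr 0)
  have p13 := e (Sum.inl 1) (Sum.inr 1)
  have p23 := e (Sum.inr 0) (Sum.inr 1)
  simp [Matrix.J, Matrix.mul_apply, Fintype.sum_sum_type, Fin.sum_univ_two, h00, h10, h20, h30]
    at p01 p02 p03 p12 p13 p23
  refine ⟨A (Sum.inl 1) (Sum.inr 0), A (Sum.inr 1) (Sum.inr 0), A (Sum.inl 0) (Sum.inr 0),
    !![A (Sum.inl 1) (Sum.inl 1), A (Sum.inl 1) (Sum.inr 1);
      A (Sum.inr 1) (Sum.inl 1), A (Sum.inr 1) (Sum.inr 1)], ?_, ?_⟩
  · rw [Matrix.det_fin_two]
    simp
    rw [p01, p03] at p13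
    linear_combination (-1 : F) * p13
  · rw [p01, p02] at p12
    rw [p02, p03] at p23
    ext i j
    rcases i with i | i <;> rcases j with j | j <;> fin_cases i <;> fin_cases j <;>
      simp [heis, levi, Matrix.mul_apply, Fin.sum_univ_two] <;>
      first
        | assumption
        | linear_combination p12
        | linear_combination (-1 : F) * p12
        | linear_combination p23
        | linear_combination (-1 : F) * p23

/-- A matrix commuting with the central Heisenberg matrix maps the first basis vector to a multiple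
of itself. -/
theorem col_of_comm {A : Matrix (Fin 2 ⊕ Fin 2) (Fin 2 ⊕ Fin 2) F}
    (h : A * heis 0 0 1 = heis 0 0 1 * A) :
    A (Sum.inl 1) (Sum.inl 0) = 0 ∧ A (Sum.inr 0) (Sum.inl 0) = 0 ∧
      A (Sum.inr 1) (Sum.inl 0) = 0 := by
  have e := fun i j => congrFun (congrFun h i) j
  have h1 := e (Sum.inl 1) (Sum.inr 0)
  have h2 := e (Sum.inr 1) (Sum.inr 0)
  have h3 := e (Sum.inl 0) (Sum.inl 0)
  simp [heis, Matrix.mul_apply, Fintype.sum_sum_type, Fin.sum_univ_two] at h1 h2 h3
  exact ⟨h1, h3, h2⟩

end Cfsg.Agent.Cent648
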