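import Mathlib
import Cfsg.Prelude.Def_Transfer

/-! Coordinates in a non-abelian group of order 27 and exponent 3 normal in a finite group, and
the action by conjugation on them. -/

set_option autoImplicit false

namespace Cfsg.Agent.Cent648

local notation "K3" => ZMod 3

theorem sl_card : Nat.card (Matrix.SpecialLinearGroup (Fin 2) K3) = 24 := by
  rw [Nat.card_eq_fintype_card]
  decide +kernel

theorem sl_sq : ∀ g : Matrix.SpecialLinearGroup (Fin 2) K3, ∃ a b, g = a ^ 2 * b ^ 2 := by
  decide +kernel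

theorem sl_neg_one : ∀ g : Matrix.SpecialLinearGroup (Fin 2) K3, g ≠ 1 →
    g = -1 ∨ g ^ 2 = -1 ∨ g ^ 3 = -1 ∨ ∃ h, (g * (h * g⁻¹ * h⁻¹)) ^ 2 = -1 := by
  decide +kernel

theorem k3_cases : ∀ v : K3, v = 0 ∨ v = 1 ∨ v = 2 := by decide

/-- A power with exponent in `ZMod 3`. -/
def pw {M : Type*} [Monoid M] (x : M) (i : K3) : M := x ^ i.val

theorem pw_nat {M : Type*} [Monoid M] {x : M} (hx : x ^ 3 = 1) (n : ℕ) :
    x ^ n = pw x (n : K3) := by
  rw [pw, ZMod.val_natCast]
  conv_lhs => rw [← Nat.mod_add_div n 3, pow_add, pow_mul, hx, one_pow, mul_one]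

theorem pw_mem {M : Type*} [Group M] {S : Subgroup M} {x : M} (hx : x ∈ S) (i : K3) :
    pw x i ∈ S := pow_mem hx _

theorem pw_add {M : Type*} [Monoid M] {x : M} (hx : x ^ 3 = 1) (i j : K3) :
    pw x i * pw x j = pw x (i + j) := by
  rw [pw, pw, ← pow_add, pw_nat hx, Nat.cast_add, ZMod.natCast_zmod_val, ZMod.natCast_zmod_val]

theorem pw_zero {M : Type*} [Monoid M] (x : M) : pw x 0 = 1 := by simp [pw]

theorem pw_one {M : Type*} [Monoid M] (x : M) : pw x 1 = x := by
  rw [pw, show (1 : K3).val = 1 from rfl, pow_one]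

theorem pw_eq_one {M : Type*} [Monoid M] {x : M} (hx : x ^ 3 = 1) (hx1 : x ≠ 1) {i : K3}
    (h : pw x i = 1) : i = 0 := by
  rcases k3_cases i with rfl | rfl | rfl
  · rfl
  · exact absurd (pw_one x ▸ h) hx1
  · exfalso
    apply hx1
    have := pw_add hx (2 : K3) 2
    rw [h, mul_one] at this
    rw [show (2 : K3) + 2 = 1 by decide, pw_one] at this
    exact this.symm

variable {X : Type*} [Group X]

/-- A coordinate frame of a normal subgroup of order 27 and exponent 3. -/
structure Frame (R : Subgroup X) (a b z : X) : Prop where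
  normal : R.Normal
  card : Nat.card R = 27
  exp : ∀ r ∈ R, r ^ 3 = 1
  ha : a ∈ R
  hb : b ∈ R
  hz : z ∈ R
  hzc : ∀ r ∈ R, r * z = z * r
  hz1 : z ≠ 1
  rel : b * a = a * b * z

/-- The element with given coordinates. -/
def el (a b z : X) (p : K3 × K3 × K3) : X := pw a p.1 * pw b p.2.1 * pw z p.2.2

variable {R : Subgroup X} {a b z : X} (h : Frame R a b z)

include h

theorem el_mem (p : K3 × K3 × K3) : el a b z p ∈ R :=
  mul_mem (mul_mem (pow_mem h.ha _) (pow_mem h.hb _)) (pow_mem h.hz _)

theorem rel_pow (n m : ℕ) : b ^ n * a ^ m = a ^ m * b ^ n * z ^ (n * m) := by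
  have ca : a * z = z * a := h.hzc a h.ha
  have cb : b * z = z * b := h.hzc b h.hb
  have h1 : ∀ n : ℕ, b ^ n * a = a * b ^ n * z ^ n := by
    intro n
    induction n with
    | zero => simp
    | succ n ih =>
      have cz : Commute (z ^ n) b := ((show Commute z b from cb.symm)).pow_left n
      calc b ^ (n + 1) * a = b ^ n * (b * a) := by rw [pow_succ, mul_assoc]
        _ = (b ^ n * a) * (b * z) := by rw [h.rel]; group
        _ = a * b ^ n * (z ^ n * b) * z := by rw [ih]; group
        _ = a * b ^ n * (b * z ^ n) * z := by rw [cz.eq]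
        _ = a * b ^ (n + 1) * z ^ (n + 1) := by rw [pow_succ, pow_succ]; group
  induction m with
  | zero => simp
  | succ m ih =>
    have cz : Commute (z ^ (n * m)) a := ((show Commute z a from ca.symm)).pow_left _
    calc b ^ n * a ^ (m + 1) = (b ^ n * a ^ m) * a := by rw [pow_succ, mul_assoc]
      _ = a ^ m * b ^ n * (z ^ (n * m) * a) := by rw [ih]; group
      _ = a ^ m * (b ^ n * a) * z ^ (n * m) := by rw [cz.eq]; group
      _ = a ^ (m + 1) * b ^ n * (z ^ n * z ^ (n * m)) := by rw [h1, pow_succ]; group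
      _ = a ^ (m + 1) * b ^ n * z ^ (n * (m + 1)) := by rw [← pow_add]; ring_nf

theorem el_mul (i j k i' j' k' : K3) :
    el a b z (i, j, k) * el a b z (i', j', k') = el a b z (i + i', j + j', k + k' + j * i') := by
  have hbm : pw b j * pw a i' = pw a i' * pw b j * pw z (j * i') := by
    have := rel_pow h j.val i'.val
    rw [pw_nat (h.exp z h.hz) (j.val * i'.val), Nat.cast_mul, ZMod.natCast_zmod_val,
      ZMod.natCast_zmod_val] at this
    exact this
  have cz : ∀ (k : K3), ∀ r ∈ R, pw z k * r = r * pw z k := fun k r hr =>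
    ((show Commute z r from (h.hzc r hr).symm).pow_left k.val).eq
  have hA : pw a i' ∈ R := pow_mem h.ha _
  have hB : pw b j' ∈ R := pow_mem h.hb _
  calc el a b z (i, j, k) * el a b z (i', j', k')
      = pw a i * pw b j * (pw z k * (pw a i' * pw b j')) * pw z k' := by simp only [el]; group
    _ = pw a i * (pw b j * pw a i') * pw b j' * (pw z k * pw z k') := by
        rw [cz k _ (mul_mem hA hB)]; group
    _ = pw a i * pw a i' * pw b j * (pw z (j * i') * pw b j') * (pw z k * pw z k') := by
        rw [hbm]; group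
    _ = (pw a i * pw a i') * (pw b j * pw b j') * (pw z (j * i') * (pw z k * pw z k')) := by
        rw [cz _ _ hB]; group
    _ = el a b z (i + i', j + j', k + k' + j * i') := by
        rw [pw_add (h.exp a h.ha), pw_add (h.exp b h.hb), pw_add (h.exp z h.hz),
          pw_add (h.exp z h.hz)]
        simp only [el]
        rw [show j * i' + (k + k') = k + k' + j * i' by ring]

theorem el_zero : el a b z (0, 0, 0) = 1 := by simp [el, pw_zero]

theorem el_a : el a b z (1, 0, 0) = a := by simp [el, pw_zero, pw_one]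

theorem el_b : el a b z (0, 1, 0) = b := by simp [el, pw_zero, pw_one]

theorem el_z : el a b z (0, 0, 1) = z := by simp [el, pw_zero, pw_one]

theorem el_inv (i j k : K3) : (el a b z (i, j, k))⁻¹ = el a b z (-i, -j, j * i - k) := by
  apply inv_eq_of_mul_eq_one_right
  rw [el_mul h, add_neg_cancel, add_neg_cancel,
    show k + (j * i - k) + j * -i = 0 by ring, el_zero h]

theorem el_eq_one {p : K3 × K3 × K3} (hp : el a b z p = 1) : p = 0 := by
  obtain ⟨i, j, k⟩ := p
  have e1 : el a b z (i, j, k) * el a b z (0, 1, 0) = el a b z (0, 1, 0) * el a b z (i, j, k) := by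
    rw [hp, one_mul, mul_one]
  have e2 : el a b z (i, j, k) * el a b z (1, 0, 0) = el a b z (1, 0, 0) * el a b z (i, j, k) := by
    rw [hp, one_mul, mul_one]
  have hz3 := h.exp z h.hz
  rw [el_mul h, el_mul h] at e1 e2
  simp only [add_zero, zero_add, one_mul, mul_zero, zero_mul, mul_one] at e1 e2
  rw [add_comm j 1] at e1
  rw [add_comm i 1] at e2
  simp only [el] at e1 e2
  have hi := mul_left_cancel e1
  have hj := mul_left_cancel e2
  have hi' : i = 0 := by
    apply pw_eq_one hz3 h.hz1
    have := hi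
    rw [← pw_add hz3 k i] at this
    exact mul_eq_left.mp this.symm
  have hj' : j = 0 := by
    apply pw_eq_one hz3 h.hz1
    have := hj
    rw [← pw_add hz3 k j] at this
    exact mul_eq_left.mp this
  subst hi' hj'
  simp only [el, pw_zero, one_mul] at hp
  rw [pw_eq_one hz3 h.hz1 hp]
  rfl

theorem el_inj {p q : K3 × K3 × K3} (hpq : el a b z p = el a b z q) : p = q := by
  obtain ⟨i, j, k⟩ := p
  obtain ⟨i', j', k'⟩ := q
  have h1 : el a b z (i, j, k) * (el a b z (i', j', k'))⁻¹ = 1 := by rw [hpq, mul_inv_cancel]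
  rw [el_inv h, el_mul h] at h1
  have h2 := el_eq_one h h1
  simp only [Prod.ext_iff, Prod.fst_zero, Prod.snd_zero] at h2 ⊢
  obtain ⟨e1, e2, e3⟩ := h2
  have hi : i = i' := by linear_combination e1
  have hj : j = j' := by linear_combination e2
  subst hi hj
  exact ⟨rfl, rfl, by linear_combination e3⟩

omit h in
/-- The coordinates of an element. -/
noncomputable def crd (a b z : X) : X → K3 × K3 × K3 := Function.invFun (el a b z)

theorem crd_el (p : K3 × K3 × K3) : crd a b z (el a b z p) = p :=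
  Function.leftInverse_invFun (fun _ _ => el_inj h) p

theorem el_crd [Finite X] {r : X} (hr : r ∈ R) : el a b z (crd a b z r) = r := by
  have hb : Function.Bijective (fun p => (⟨el a b z p, el_mem h p⟩ : R)) :=
    (Nat.bijective_iff_injective_and_card _).mpr
      ⟨fun p q e => el_inj h (congrArg Subtype.val e), by
        rw [h.card, Nat.card_prod, Nat.card_prod, Nat.card_zmod]⟩
  obtain ⟨p, hp⟩ := hb.surjective ⟨r, hr⟩
  exact Function.invFun_eq ⟨p, congrArg Subtype.val hp⟩

omit h in
/-- The first two coordinates. -/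
noncomputable def vec (a b z : X) (r : X) : Fin 2 → K3 := ![(crd a b z r).1, (crd a b z r).2.1]

theorem vec_el (i j k : K3) : vec a b z (el a b z (i, j, k)) = ![i, j] := by
  simp [vec, crd_el h]

theorem vec_mul [Finite X] {r r' : X} (hr : r ∈ R) (hr' : r' ∈ R) :
    vec a b z (r * r') = vec a b z r + vec a b z r' := by
  obtain ⟨i, j, k, e⟩ : ∃ i j k, el a b z (i, j, k) = r := ⟨_, _, _, el_crd h hr⟩
  obtain ⟨i', j', k', e'⟩ : ∃ i j k, el a b z (i, j, k) = r' := ⟨_, _, _, el_crd h hr'⟩
  rw [← e, ← e', el_mul h, vec_el h, vec_el h, vec_el h]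
  ext n; fin_cases n <;> simp

theorem vec_pw [Finite X] {r : X} (hr : r ∈ R) (i : K3) :
    vec a b z (pw r i) = i • vec a b z r := by
  have h0 : vec a b z (1 : X) = 0 := by
    rw [← el_zero h, vec_el h]; ext n; fin_cases n <;> simp
  rcases k3_cases i with rfl | rfl | rfl
  · rw [pw_zero, h0, zero_smul]
  · rw [pw_one, one_smul]
  · rw [← pw_add (h.exp r hr) 1 1 |>.trans (by norm_num : pw r ((1 : K3) + 1) = pw r 2), pw_one,
      vec_mul h hr hr, two_smul]

theorem commutator_el (i j k i' j' k' : K3) :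
    el a b z (i', j', k') * el a b z (i, j, k) =
      el a b z (i, j, k) * el a b z (i', j', k') * pw z (i * j' - j * i') := by
  rw [el_mul h, el_mul h, show pw z (i * j' - j * i') = el a b z (0, 0, i * j' - j * i') by
    simp [el, pw_zero], el_mul h]
  congr 1
  simp only [Prod.mk.injEq]
  exact ⟨by ring, by ring, by ring⟩

omit h in
/-- The matrix of the conjugation by an element. -/
noncomputable def act (a b z : X) (x : X) : Matrix (Fin 2) (Fin 2) K3 :=
  Matrix.of fun n m => ![vec a b z (x * a * x⁻¹), vec a b z (x * b * x⁻¹)] m n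

theorem vec_conj [Finite X] (x : X) {r : X} (hr : r ∈ R) :
    vec a b z (x * r * x⁻¹) = (act a b z x).mulVec (vec a b z r) := by
  have := h.normal
  have cj : ∀ {t : X}, t ∈ R → x * t * x⁻¹ ∈ R := fun ht => this.conj_mem _ ht x
  obtain ⟨i, j, k, e⟩ : ∃ i j k, el a b z (i, j, k) = r := ⟨_, _, _, el_crd h hr⟩
  have cpw : ∀ (t : X) (i : K3), x * pw t i * x⁻¹ = pw (x * t * x⁻¹) i := by
    intro t i; simp [pw]
  have hzero : vec a b z (x * z * x⁻¹) = 0 := by
    have hrel : x * b * x⁻¹ * (x * a * x⁻¹) = x * a * x⁻¹ * (x * b * x⁻¹) * (x * z * x⁻¹) := by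
      calc x * b * x⁻¹ * (x * a * x⁻¹) = x * (b * a) * x⁻¹ := by group
        _ = _ := by rw [h.rel]; group
    have := congrArg (vec a b z) hrel
    rw [vec_mul h (cj h.hb) (cj h.ha), vec_mul h (mul_mem (cj h.ha) (cj h.hb)) (cj h.hz),
      vec_mul h (cj h.ha) (cj h.hb), add_comm (vec a b z (x * b * x⁻¹))] at this
    exact add_eq_left.mp this.symm
  rw [← e, show x * el a b z (i, j, k) * x⁻¹ = pw (x * a * x⁻¹) i * pw (x * b * x⁻¹) j *
      pw (x * z * x⁻¹) k by rw [← cpw, ← cpw, ← cpw]; simp only [el]; group,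
    vec_mul h (mul_mem (pw_mem (cj h.ha) _) (pw_mem (cj h.hb) _)) (pw_mem (cj h.hz) _),
    vec_mul h (pw_mem (cj h.ha) _) (pw_mem (cj h.hb) _),
    vec_pw h (cj h.ha), vec_pw h (cj h.hb), vec_pw h (cj h.hz), hzero, smul_zero, add_zero,
    vec_el h]
  ext n
  fin_cases n <;> simp [act, Matrix.mulVec, dotProduct, Fin.sum_univ_two] <;> ring

theorem act_mul [Finite X] (x y : X) : act a b z (x * y) = act a b z x * act a b z y := by
  have := h.normal
  ext n m
  fin_cases m
  · have := congrFun (vec_conj h x (this.conj_mem _ h.ha y)) n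
    rw [show x * (y * a * y⁻¹) * x⁻¹ = x * y * a * (x * y)⁻¹ by group] at this
    simpa [act, Matrix.mul_apply, Matrix.mulVec, dotProduct] using this
  · have := congrFun (vec_conj h x (this.conj_mem _ h.hb y)) n
    rw [show x * (y * b * y⁻¹) * x⁻¹ = x * y * b * (x * y)⁻¹ by group] at this
    simpa [act, Matrix.mul_apply, Matrix.mulVec, dotProduct] using this

theorem act_of_mem [Finite X] {r : X} (hr : r ∈ R) : act a b z r = 1 := by
  have key : ∀ {t : X}, t ∈ R → vec a b z (r * t * r⁻¹) = vec a b z t := by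
    intro t ht
    have h1 := vec_mul h (mul_mem (mul_mem hr ht) (inv_mem hr)) hr
    rw [inv_mul_cancel_right, vec_mul h hr ht, add_comm] at h1
    exact add_right_cancel h1.symm
  have va : vec a b z a = ![1, 0] := by simpa only [el_a h] using vec_el h 1 0 0
  have vb : vec a b z b = ![0, 1] := by simpa only [el_b h] using vec_el h 0 1 0
  ext n m
  fin_cases m <;> fin_cases n <;> simp [act, key h.ha, key h.hb, va, vb]

/-- The determinant measures the action on the centre. -/
theorem conj_z [Finite X] (x : X) : x * z * x⁻¹ = pw z (act a b z x).det := by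
  have := h.normal
  obtain ⟨i, j, k, e⟩ : ∃ i j k, el a b z (i, j, k) = x * a * x⁻¹ :=
    ⟨_, _, _, el_crd h (this.conj_mem _ h.ha x)⟩
  obtain ⟨i', j', k', e'⟩ : ∃ i j k, el a b z (i, j, k) = x * b * x⁻¹ :=
    ⟨_, _, _, el_crd h (this.conj_mem _ h.hb x)⟩
  have h1 : x * z * x⁻¹ = (x * a * x⁻¹ * (x * b * x⁻¹))⁻¹ * (x * b * x⁻¹ * (x * a * x⁻¹)) := by
    calc x * z * x⁻¹ = x * ((a * b)⁻¹ * (a * b * z)) * x⁻¹ := by rw [inv_mul_cancel_left]
      _ = x * ((a * b)⁻¹ * (b * a)) * x⁻¹ := by rw [h.rel]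
      _ = _ := by group
  have hd : (act a b z x).det = i * j' - j * i' := by
    rw [Matrix.det_fin_two]
    simp [act, ← e, ← e', vec_el h]
    ring
  rw [h1, ← e, ← e', commutator_el h i j k i' j' k', inv_mul_cancel_left, hd]

end Cfsg.Agent.Cent648
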