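import Mathlib
import Cfsg.Prelude.Def_Transfer
import Cfsg.Statements.S3366
import Cfsg.Agent.Cent648.Frame

/-! A group of order 648 with normal extraspecial subgroup of order 27 and quotient `SL(2,3)`
splits over it as soon as it has an elementary abelian subgroup of order 27. -/

set_option autoImplicit false

namespace Cfsg.Agent.Cent648

local notation "K3" => ZMod 3
local notation "SL3" => Matrix.SpecialLinearGroup (Fin 2) (ZMod 3)

theorem sl_inv_neg : ∀ g : SL3, g ^ 2 = 1 → g ≠ 1 → g = -1 := by decide +kernel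

theorem k3_prop : ∀ i j i' j' : K3, (i, j) ≠ (0, 0) → i * j' - j * i' = 0 →
    ∃ l : K3, i' = l * i ∧ j' = l * j := by
  decide

variable {X : Type*} [Group X]

theorem exists_frame (R : Subgroup X) (hn : R.Normal) (hR : Cfsg.IsExtraspecial 3 R)
    (hcard : Nat.card R = 27) (hexp : ∀ r ∈ R, r ^ 3 = 1) :
    ∃ a b z : X, Frame R a b z := by
  haveI : Finite R := Nat.finite_of_card_ne_zero (by omega)
  have hna : ¬ ∀ x y : R, x * y = y * x := by
    intro hc
    have : Subgroup.center R = ⊤ := by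
      rw [eq_top_iff]
      exact fun x _ => Subgroup.mem_center_iff.mpr fun y => hc y x
    have h3 := hR.2
    rw [this, Subgroup.card_top, hcard] at h3
    omega
  push_neg at hna
  obtain ⟨a, b, hab⟩ := hna
  have hmem : a⁻¹ * b⁻¹ * a * b ∈ Subgroup.center R ∧ (b⁻¹ * a⁻¹ * b * a) ∈ Subgroup.center R := by
    rw [← hR.1.2.2]
    constructor
    · have := Subgroup.commutator_mem_commutator (Subgroup.mem_top a⁻¹) (Subgroup.mem_top b⁻¹)
      simpa [commutatorElement_def, commutator_def] using this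
    · have := Subgroup.commutator_mem_commutator (Subgroup.mem_top b⁻¹) (Subgroup.mem_top a⁻¹)
      simpa [commutatorElement_def, commutator_def] using this
  refine ⟨a, b, (b⁻¹ * a⁻¹ * b * a : R), hn, hcard, hexp, a.2, b.2, SetLike.coe_mem _, ?_, ?_, ?_⟩
  · intro r hr
    exact congrArg Subtype.val (Subgroup.mem_center_iff.mp hmem.2 ⟨r, hr⟩)
  · intro h1
    apply hab
    have h2 : b⁻¹ * a⁻¹ * b * a = 1 := Subtype.ext h1
    calc a * b = a * b * (b⁻¹ * a⁻¹ * b * a) := by rw [h2, mul_one]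
      _ = b * a := by group
  · have : b * a = a * b * (b⁻¹ * a⁻¹ * b * a) := by group
    exact congrArg Subtype.val this

theorem pw_inv {x : X} (hx : x ^ 3 = 1) (i : K3) : pw x⁻¹ i = pw x (-i) := by
  have h1 : pw x i * pw x (-i) = 1 := by rw [pw_add hx, add_neg_cancel, pw_zero]
  rw [← inv_eq_of_mul_eq_one_right h1]
  simp [pw]

theorem conj_pw (x t : X) (i : K3) : x * pw t i * x⁻¹ = pw (x * t * x⁻¹) i := by simp [pw]

/-- The splitting data. -/
structure Split (R : Subgroup X) (a b z s : X) (σ : SL3 →* X) : Prop where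
  frame : Frame R a b z
  central : ∀ x : X, x * z * x⁻¹ = z
  sa : s * a * s⁻¹ = a⁻¹
  sb : s * b * s⁻¹ = b⁻¹
  comm : ∀ g, Commute s (σ g)
  act_σ : ∀ g : SL3, act a b z (σ g) = (g : Matrix (Fin 2) (Fin 2) K3)
  exists_mul : ∀ x : X, ∃ g, x * (σ g)⁻¹ ∈ R

theorem exists_split [Finite X] (R : Subgroup X) (hn : R.Normal) (hRp : R = Cfsg.pCore 3 X)
    (hR : Cfsg.IsExtraspecial 3 R) (hcard : Nat.card R = 27) (hexp : ∀ r ∈ R, r ^ 3 = 1)
    (π : X →* SL3) (hπ : Function.Surjective π) (hπk : π.ker = R)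
    (hO2 : Cfsg.pCore 2 X = ⊥)
    (hE : ∃ E : Subgroup X, IsMulCommutative E ∧ (∀ a ∈ E, a ^ 3 = 1) ∧ Nat.card E = 27) :
    ∃ (a b z s : X) (σ : SL3 →* X), Split R a b z s σ := by
  classical
  obtain ⟨a0, b0, z, h0⟩ := exists_frame R hn hR hcard hexp
  have hz3 : z ^ 3 = 1 := hexp z h0.hz
  have memR : ∀ x : X, x ∈ R ↔ π x = 1 := fun x => by rw [← hπk, MonoidHom.mem_ker]
  -- determinant one
  have actone : act a0 b0 z (1 : X) = 1 := act_of_mem h0 (one_mem R)
  have dne : ∀ x : X, (act a0 b0 z x).det ≠ 0 := by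
    intro x hx
    have := congrArg Matrix.det (act_mul h0 x x⁻¹)
    rw [mul_inv_cancel, actone, Matrix.det_one, Matrix.det_mul, hx, zero_mul] at this
    exact one_ne_zero this
  have dsq : ∀ x : X, (act a0 b0 z (x ^ 2)).det = 1 := by
    intro x
    have h2 : ∀ v : K3, v ≠ 0 → v * v = 1 := by decide
    rw [pow_two, act_mul h0, Matrix.det_mul, h2 _ (dne x)]
  have done' : ∀ x : X, (act a0 b0 z x).det = 1 := by
    intro x
    obtain ⟨g1, g2, hg⟩ := sl_sq (π x)
    obtain ⟨x1, rfl⟩ := hπ g1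
    obtain ⟨x2, rfl⟩ := hπ g2
    have hr : x * (x1 ^ 2 * x2 ^ 2)⁻¹ ∈ R := by
      rw [memR, map_mul, map_inv, hg, map_mul, map_pow, map_pow, mul_inv_cancel]
    have : x = x * (x1 ^ 2 * x2 ^ 2)⁻¹ * (x1 ^ 2 * x2 ^ 2) := by group
    rw [this, act_mul h0, act_of_mem h0 hr, one_mul, act_mul h0, Matrix.det_mul, dsq, dsq,
      one_mul]
  have zc : ∀ x : X, x * z * x⁻¹ = z := fun x => by rw [conj_z h0 x, done' x, pw_one]
  let μ : X →* SL3 :=
    { toFun := fun x => ⟨act a0 b0 z x, done' x⟩
      map_one' := Subtype.ext actone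
      map_mul' := fun x y => Subtype.ext (act_mul h0 x y) }
  have μR : ∀ r ∈ R, μ r = 1 := fun r hr => Subtype.ext (act_of_mem h0 hr)
  -- involutions above minus one
  have lift_neg : ∀ (φ : X →* SL3) (y : X), φ.ker = R → φ y = -1 →
      φ (y ^ 3) = -1 ∧ y ^ 3 * y ^ 3 = 1 := by
    intro φ y hk hy
    have hy2 : y ^ 2 ∈ R := by rw [← hk, MonoidHom.mem_ker, map_pow, hy]; simp
    refine ⟨by rw [map_pow, hy]; simp [pow_succ], ?_⟩
    rw [← pow_add, show 3 + 3 = 2 * 3 by norm_num, pow_mul]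
    exact hexp _ hy2
  -- the kernel of the action
  have μker : μ.ker = R := by
    by_contra hne
    obtain ⟨g, hg, hgR⟩ : ∃ g ∈ μ.ker, g ∉ R := by
      by_contra hc
      push_neg at hc
      exact hne (le_antisymm hc fun r hr => μR r hr)
    have hy : ∃ y ∈ μ.ker, π y = -1 := by
      rcases sl_neg_one (π g) (fun e => hgR ((memR g).mpr e)) with e | e | e | ⟨w, e⟩
      · exact ⟨g, hg, e⟩
      · exact ⟨g ^ 2, pow_mem hg 2, by rw [map_pow, e]⟩
      · exact ⟨g ^ 3, pow_mem hg 3, by rw [map_pow, e]⟩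
      · obtain ⟨w, rfl⟩ := hπ w
        refine ⟨(g * (w * g⁻¹ * w⁻¹)) ^ 2,
          pow_mem (mul_mem hg ((MonoidHom.normal_ker μ).conj_mem _ (inv_mem hg) w)) 2, ?_⟩
        rw [map_pow, map_mul, map_mul, map_mul, map_inv, map_inv, e]
    obtain ⟨y, hyk, hy⟩ := hy
    obtain ⟨hs, hs2⟩ := lift_neg π y hπk hy
    set s := y ^ 3
    have hsk : μ s = 1 := pow_mem hyk 3
    have hfix : ∀ t ∈ R, s * t * s⁻¹ = t := by
      intro t ht
      have hv := vec_conj h0 s ht
      rw [show act a0 b0 z s = 1 from congrArg Subtype.val hsk, Matrix.one_mulVec] at hv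
      have hct := hn.conj_mem _ ht s
      have e1 := el_crd h0 hct
      have e2 := el_crd h0 ht
      obtain ⟨i, j, k, hi⟩ : ∃ i j k, crd a0 b0 z (s * t * s⁻¹) = (i, j, k) := ⟨_, _, _, rfl⟩
      obtain ⟨i', j', k', hi'⟩ : ∃ i j k, crd a0 b0 z t = (i, j, k) := ⟨_, _, _, rfl⟩
      have v0 := congrFun hv 0
      have v1 := congrFun hv 1
      simp [vec, hi, hi'] at v0 v1
      rw [hi, v0, v1] at e1
      rw [hi'] at e2
      have hd : s * t * s⁻¹ = t * pw z (k - k') := by
        have hzk : pw z (k - k') = el a0 b0 z (0, 0, k - k') := by simp [el, pw_zero]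
        rw [← e1, ← e2, hzk, el_mul h0]
        simp
      have hd2 : t = t * pw z (k - k') * pw z (k - k') := by
        calc t = s * s * t * (s * s)⁻¹ := by rw [hs2]; group
          _ = s * (s * t * s⁻¹) * s⁻¹ := by group
          _ = s * (t * pw z (k - k')) * s⁻¹ := by rw [hd]
          _ = (s * t * s⁻¹) * (s * pw z (k - k') * s⁻¹) := by group
          _ = t * pw z (k - k') * pw z (k - k') := by rw [conj_pw, zc s, hd]
      rw [mul_assoc, pw_add hz3, eq_comm, mul_eq_left] at hd2
      have hk0 : k - k' = 0 := by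
        have hk2 := pw_eq_one hz3 h0.hz1 hd2
        have h3 : (3 : K3) = 0 := by decide
        linear_combination 2 * hk2 - (k - k') * h3
      rw [hd, hk0, pw_zero, mul_one]
    -- `s` is central
    have scent : ∀ x : X, x * s * x⁻¹ = s := by
      intro x
      have hr : s⁻¹ * (x * s * x⁻¹) ∈ R := by
        rw [memR]; simp [hs]
      set r := s⁻¹ * (x * s * x⁻¹) with hrdef
      have hsr : x * s * x⁻¹ = s * r := by rw [hrdef]; group
      have hrc : ∀ t ∈ R, r * t = t * r := by
        intro t ht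
        have hxs : x * s * x⁻¹ * t * (x * s * x⁻¹)⁻¹ = t := by
          have ht' := hn.conj_mem _ ht x⁻¹
          calc x * s * x⁻¹ * t * (x * s * x⁻¹)⁻¹
              = x * (s * (x⁻¹ * t * x⁻¹⁻¹) * s⁻¹) * x⁻¹ := by group
            _ = t := by rw [hfix _ ht']; group
        rw [hsr] at hxs
        have h2 : s * (r * t * r⁻¹) * s⁻¹ = t := by
          calc s * (r * t * r⁻¹) * s⁻¹ = s * r * t * (s * r)⁻¹ := by group
            _ = t := hxs
        rw [hfix _ (hn.conj_mem _ ht r)] at h2
        calc r * t = r * t * r⁻¹ * r := by group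
          _ = t * r := by rw [h2]
      have hcs : s * r = r * s := by
        calc s * r = s * r * s⁻¹ * s := by group
          _ = r * s := by rw [hfix r hr]
      have h1 : (s * r) * (s * r) = 1 := by
        rw [← hsr]; calc x * s * x⁻¹ * (x * s * x⁻¹) = x * (s * s) * x⁻¹ := by group
          _ = 1 := by rw [hs2]; group
      have hr2 : r * r = 1 := by
        calc r * r = s * s * (r * r) := by rw [hs2, one_mul]
          _ = s * (s * r) * r := by group
          _ = s * (r * s) * r := by rw [hcs]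
          _ = (s * r) * (s * r) := by group
          _ = 1 := h1
      have hr1 : r = 1 := by
        have h3 := hexp r hr
        rw [pow_succ, pow_two, hr2, one_mul] at h3
        exact h3
      rw [hsr, hr1, mul_one]
    have hsne : s ≠ 1 := by
      intro e
      rw [e, map_one] at hs
      exact absurd hs (by decide +kernel)
    have hle : Subgroup.zpowers s ≤ Cfsg.pCore 2 X := by
      refine le_sSup ⟨⟨fun n hn' x => ?_⟩, ?_⟩
      · obtain ⟨k, rfl⟩ := Subgroup.mem_zpowers_iff.mp hn'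
        rw [← conj_zpow, scent x]
        exact Subgroup.zpow_mem_zpowers s k
      · refine IsPGroup.of_card (n := 1) ?_
        rw [Nat.card_zpowers, pow_one]
        exact orderOf_eq_prime (by rw [pow_two, hs2]) hsne
    rw [hO2, le_bot_iff, Subgroup.zpowers_eq_bot] at hle
    exact hsne hle
  have μsurj : Function.Surjective μ := by
    rw [← MonoidHom.range_eq_top]
    apply Subgroup.eq_top_of_card_eq
    rw [← Nat.card_congr (QuotientGroup.quotientKerEquivRange μ).toEquiv, μker, ← hπk,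
      Nat.card_congr (QuotientGroup.quotientKerEquivOfSurjective π hπ).toEquiv]
  obtain ⟨y, hy⟩ := μsurj (-1)
  obtain ⟨hs, hs2⟩ := lift_neg μ y μker hy
  set s := y ^ 3
  have sinv : s⁻¹ = s := inv_eq_of_mul_eq_one_right hs2
  have sact : act a0 b0 z s = ((-1 : SL3) : Matrix (Fin 2) (Fin 2) K3) := congrArg Subtype.val hs
  -- adjust the frame
  have adjust : ∀ t : X, ∀ i j : K3, el a0 b0 z (i, j, 0) = t →
      ∃ k, s * (t * pw z k) * s⁻¹ = (t * pw z k)⁻¹ := by
    intro t i j ht
    have htR : t ∈ R := ht ▸ el_mem h0 _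
    have hv := vec_conj h0 s htR
    rw [sact, ← ht, vec_el h0] at hv
    obtain ⟨i', j', k', hi⟩ : ∃ i' j' k', el a0 b0 z (i', j', k') = s * el a0 b0 z (i, j, 0) * s⁻¹ :=
      ⟨_, _, _, el_crd h0 (hn.conj_mem _ (el_mem h0 _) s)⟩
    rw [← hi, vec_el h0] at hv
    have v0 := congrFun hv 0
    have v1 := congrFun hv 1
    simp [Matrix.mulVec, dotProduct, Fin.sum_univ_two] at v0 v1
    subst v0 v1
    refine ⟨k' - j * i, ?_⟩
    have hzel : ∀ m, pw z m = el a0 b0 z (0, 0, m) := fun m => by simp [el, pw_zero]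
    rw [← ht, show s * (el a0 b0 z (i, j, 0) * pw z (k' - j * i)) * s⁻¹ =
        (s * el a0 b0 z (i, j, 0) * s⁻¹) * (s * pw z (k' - j * i) * s⁻¹) by group,
      conj_pw, zc s, ← hi, hzel, el_mul h0, el_mul h0, el_inv h0]
    have h3 : (3 : K3) = 0 := by decide
    congr 1
    simp only [Prod.mk.injEq]
    exact ⟨by ring, by ring, by linear_combination (k' - j * i) * h3⟩
  obtain ⟨ka, hka⟩ := adjust a0 1 0 (el_a h0)
  obtain ⟨kb, hkb⟩ := adjust b0 0 1 (el_b h0)
  set a := a0 * pw z ka with hadef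
  set b := b0 * pw z kb with hbdef
  have zcomm : ∀ (x : X) (k : K3), x * pw z k = pw z k * x := by
    intro x k
    calc x * pw z k = x * pw z k * x⁻¹ * x := by group
      _ = pw z k * x := by rw [conj_pw, zc x]
  have h : Frame R a b z := by
    refine ⟨hn, hcard, hexp, mul_mem h0.ha (pw_mem h0.hz _), mul_mem h0.hb (pw_mem h0.hz _),
      h0.hz, h0.hzc, h0.hz1, ?_⟩
    calc b0 * pw z kb * (a0 * pw z ka) = b0 * (pw z kb * a0) * pw z ka := by group
      _ = b0 * a0 * (pw z kb * pw z ka) := by rw [← zcomm]; group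
      _ = a0 * b0 * z * (pw z ka * pw z kb) := by rw [h0.rel, ← zcomm (pw z kb) ka]
      _ = a0 * (b0 * z * pw z ka) * pw z kb := by group
      _ = a0 * (pw z ka * (b0 * z)) * pw z kb := by rw [zcomm (b0 * z) ka]
      _ = a0 * pw z ka * b0 * (z * pw z kb) := by group
      _ = a0 * pw z ka * b0 * (pw z kb * z) := by rw [zcomm z kb]
      _ = a0 * pw z ka * (b0 * pw z kb) * z := by group
  have acteq : ∀ x, act a b z x = act a0 b0 z x := by
    have hvec : ∀ t ∈ R, vec a b z t = vec a0 b0 z t := by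
      intro t ht
      obtain ⟨i, j, k, e⟩ : ∃ i j k, el a b z (i, j, k) = t := ⟨_, _, _, el_crd h ht⟩
      have va : ∀ (t : X) (k : K3), t ∈ R → vec a0 b0 z (t * pw z k) = vec a0 b0 z t := by
        intro t k ht
        have vz : vec a0 b0 z z = 0 := by
          have := vec_el h0 0 0 1
          rw [el_z h0] at this
          rw [this]; ext n; fin_cases n <;> simp
        rw [vec_mul h0 ht (pw_mem h0.hz _), vec_pw h0 h0.hz, vz, smul_zero, add_zero]
      rw [← e, vec_el h]
      simp only [el]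
      rw [va _ _ (mul_mem (pw_mem h.ha _) (pw_mem h.hb _)),
        vec_mul h0 (pw_mem h.ha _) (pw_mem h.hb _), vec_pw h0 h.ha, vec_pw h0 h.hb, hadef, hbdef,
        va _ _ h0.ha, va _ _ h0.hb]
      have e1 := vec_el h0 1 0 0
      have e2 := vec_el h0 0 1 0
      rw [el_a h0] at e1
      rw [el_b h0] at e2
      rw [e1, e2]
      ext n; fin_cases n <;> simp
    intro x
    ext n m
    fin_cases m <;> simp [act] <;>
      rw [hvec _ (hn.conj_mem _ (by first | exact h.ha | exact h.hb) x)]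
    all_goals
      first
        | (rw [hadef, show x * (a0 * pw z ka) * x⁻¹ = x * a0 * x⁻¹ * (x * pw z ka * x⁻¹) by group,
            vec_mul h0 (hn.conj_mem _ h0.ha x) (hn.conj_mem _ (pw_mem h0.hz _) x)]
           rw [conj_pw, zc x, vec_pw h0 h0.hz]
           have := vec_el h0 0 0 1
           rw [el_z h0] at this
           simp [this]
           fin_cases n <;> simp)
        | (rw [hbdef, show x * (b0 * pw z kb) * x⁻¹ = x * b0 * x⁻¹ * (x * pw z kb * x⁻¹) by group,
            vec_mul h0 (hn.conj_mem _ h0.hb x) (hn.conj_mem _ (pw_mem h0.hz _) x)]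
           rw [conj_pw, zc x, vec_pw h0 h0.hz]
           have := vec_el h0 0 0 1
           rw [el_z h0] at this
           simp [this]
           fin_cases n <;> simp)
  have hsel : ∀ i j k, s * el a b z (i, j, k) * s⁻¹ = el a b z (-i, -j, k) := by
    intro i j k
    rw [show s * el a b z (i, j, k) * s⁻¹ =
      (s * pw a i * s⁻¹) * (s * pw b j * s⁻¹) * (s * pw z k * s⁻¹) by simp only [el]; group,
      conj_pw, conj_pw, conj_pw, hka, hkb, zc s, pw_inv (hexp _ h.ha), pw_inv (hexp _ h.hb)]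
    rfl
  have fixR : ∀ r ∈ R, s * r = r * s → ∃ k, r = pw z k := by
    intro r hr hc
    obtain ⟨i, j, k, e⟩ : ∃ i j k, el a b z (i, j, k) = r := ⟨_, _, _, el_crd h hr⟩
    have h1 := hsel i j k
    rw [e, hc, mul_inv_cancel_right, ← e] at h1
    have h2 := el_inj h h1
    simp only [Prod.mk.injEq] at h2
    have hz : ∀ v : K3, v = -v → v = 0 := by decide
    refine ⟨k, ?_⟩
    rw [← e, hz i h2.1, hz j h2.2.1]
    simp [el, pw_zero]
  -- the centraliser of `s` covers the quotient
  have cover : ∀ x : X, ∃ r ∈ R, Commute s (r⁻¹ * x) := by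
    intro x
    have hr : s⁻¹ * (x * s * x⁻¹) ∈ R := by rw [← μker, MonoidHom.mem_ker]; simp [hs]
    set r := s⁻¹ * (x * s * x⁻¹) with hrdef
    have hsr : x * s * x⁻¹ = s * r := by rw [hrdef]; group
    have hinv : s * r * s⁻¹ = r⁻¹ := by
      have h1 : (x * s * x⁻¹) * (x * s * x⁻¹) = 1 := by
        calc x * s * x⁻¹ * (x * s * x⁻¹) = x * (s * s) * x⁻¹ := by group
          _ = 1 := by rw [hs2]; group
      rw [hsr] at h1
      rw [sinv]
      exact eq_inv_of_mul_eq_one_left (by rw [← h1]; group)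
    refine ⟨r, hr, ?_⟩
    have h3 : r * r * r = 1 := by rw [← hexp r hr, pow_succ, pow_two]
    have key : x * s * x⁻¹ = r * s * r⁻¹ := by
      have hsr' : r * s = s * r⁻¹ := by
        calc r * s = s * s * r * s := by rw [hs2, one_mul]
          _ = s * (s * r * s⁻¹) * (s * s) := by group
          _ = s * r⁻¹ := by rw [hinv, hs2, mul_one]
      rw [hsr, hsr']
      calc s * r = s * (r * (r * r * r)⁻¹) := by rw [h3, inv_one, mul_one]
        _ = s * r⁻¹ * r⁻¹ := by group
    show s * (r⁻¹ * x) = r⁻¹ * x * s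
    calc s * (r⁻¹ * x) = r⁻¹ * (r * s * r⁻¹) * x := by group
      _ = r⁻¹ * x * s := by rw [← key]; group
  set Cs := Subgroup.centralizer ({s} : Set X)
  have memCs : ∀ x : X, x ∈ Cs ↔ s * x = x * s := fun x => by
    simp [Cs, Subgroup.mem_centralizer_iff]
  -- an element of order three outside `R`
  obtain ⟨E, hEc, hE3, hE27⟩ := hE
  have hEab : ∀ p ∈ E, ∀ q ∈ E, p * q = q * p := fun p hp q hq =>
    congrArg Subtype.val (hEc.is_comm.comm (⟨p, hp⟩ : E) ⟨q, hq⟩)
  have hab : a * b ≠ b * a := by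
    rw [h.rel]
    intro e
    exact h.hz1 (mul_eq_left.mp e.symm)
  obtain ⟨y1, hy1E, hy1R⟩ : ∃ y ∈ E, y ∉ R := by
    by_contra hc
    push_neg at hc
    have hER : E = R := Subgroup.eq_of_le_of_card_ge hc (by rw [hcard, hE27])
    exact hab (hEab a (hER ▸ h.ha) b (hER ▸ h.hb))
  obtain ⟨v, ⟨hvE, hvR⟩, hv⟩ : ∃ v ∈ E ⊓ R, ∀ k, v ≠ pw z k := by
    by_contra hc
    push_neg at hc
    have hle : E ⊓ R ≤ Subgroup.zpowers z := fun v hv => by
      obtain ⟨k, rfl⟩ := hc v hv
      exact pow_mem (Subgroup.mem_zpowers z) _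
    have h3 : Nat.card (E ⊓ R : Subgroup X) ≤ 3 := by
      refine (Nat.card_le_card_of_injective _ (Subgroup.inclusion_injective hle)).trans ?_
      rw [Nat.card_zpowers]
      exact orderOf_le_of_pow_eq_one (by norm_num) hz3
    have hk : Nat.card (π.subgroupMap E).ker = Nat.card (E ⊓ R : Subgroup X) := by
      have hmem : ∀ x : E, x ∈ (π.subgroupMap E).ker ↔ (x : X) ∈ R := fun x => by
        rw [MonoidHom.mem_ker, memR]
        exact ⟨fun e => congrArg Subtype.val e, fun e => Subtype.ext e⟩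
      exact Nat.card_congr
        { toFun := fun x => ⟨x.1.1, x.1.2, (hmem x.1).mp x.2⟩
          invFun := fun x => ⟨⟨x.1, x.2.1⟩, (hmem _).mpr x.2.2⟩
          left_inv := fun _ => rfl
          right_inv := fun _ => rfl }
    have hq := Subgroup.card_eq_card_quotient_mul_card_subgroup (π.subgroupMap E).ker
    rw [Nat.card_congr (QuotientGroup.quotientKerEquivOfSurjective _
      (π.subgroupMap_surjective E)).toEquiv, hE27, hk] at hq
    have hdvd : Nat.card (E.map π) ∣ 3 := by
      have hd1 : Nat.card (E.map π) ∣ 27 := ⟨_, hq⟩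
      have hd2 : Nat.card (E.map π) ∣ 24 := sl_card ▸ Subgroup.card_subgroup_dvd_card _
      simpa using Nat.dvd_gcd hd1 hd2
    have := Nat.le_of_dvd (by norm_num) hdvd
    nlinarith
  obtain ⟨i, j, k, hvel⟩ : ∃ i j k, el a b z (i, j, k) = v := ⟨_, _, _, el_crd h hvR⟩
  have hij : (i, j) ≠ (0, 0) := by
    intro e
    simp only [Prod.mk.injEq] at e
    apply hv k
    rw [← hvel, e.1, e.2]
    simp [el, pw_zero]
  have hzel : ∀ m, pw z m = el a b z (0, 0, m) := fun m => by simp [el, pw_zero]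
  set v' := el a b z (i, j, -(i * j)) with hv'def
  have hyv : y1 * v' = v' * y1 := by
    have e1 : v' = v * pw z (-(i * j) - k) := by
      rw [← hvel, hzel, el_mul h, hv'def]
      simp
    rw [e1, ← mul_assoc, hEab y1 hy1E v hvE, mul_assoc, zcomm y1, ← mul_assoc]
  obtain ⟨r, hr, hp⟩ := cover y1
  set t := r⁻¹ * y1 with htdef
  have htv : t * v' = v' * t := by
    have hR' : t * v' * t⁻¹ ∈ R := hn.conj_mem _ (el_mem h _) t
    have hinv : s * (t * v' * t⁻¹) * s⁻¹ = (t * v' * t⁻¹)⁻¹ := by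
      have h1 : s * v' * s⁻¹ = v'⁻¹ := by
        rw [hsel, el_inv h]
        congr 1
        simp only [Prod.mk.injEq]
        refine ⟨trivial, trivial, ?_⟩
        have h3 : (3 : K3) = 0 := by decide
        linear_combination -(i * j) * h3
      calc s * (t * v' * t⁻¹) * s⁻¹ = (s * t) * v' * (s * t)⁻¹ := by group
        _ = t * (s * v' * s⁻¹) * t⁻¹ := by rw [hp.eq]; group
        _ = _ := by rw [h1]; group
    obtain ⟨i', j', k', e⟩ : ∃ i j k, el a b z (i, j, k) = t * v' * t⁻¹ :=
      ⟨_, _, _, el_crd h hR'⟩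
    have hvv : vec a b z (t * v' * t⁻¹) = vec a b z v' := by
      rw [vec_conj h t (el_mem h _)]
      have : act a b z t = act a b z y1 := by
        rw [htdef, act_mul h, act_of_mem h (inv_mem hr), one_mul]
      rw [this, ← vec_conj h y1 (el_mem h _), hyv, mul_inv_cancel_right]
    rw [← e, hv'def, vec_el h, vec_el h] at hvv
    have v0 := congrFun hvv 0
    have v1 := congrFun hvv 1
    simp at v0 v1
    rw [← e, hsel, el_inv h] at hinv
    have hk' := el_inj h hinv
    simp only [Prod.mk.injEq] at hk'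
    have hkk : k' = -(i * j) := by
      rw [v0, v1] at hk'
      have h3 : (3 : K3) = 0 := by decide
      linear_combination (-1 : K3) * hk'.2.2 + k' * h3
    calc t * v' = t * v' * t⁻¹ * t := by group
      _ = v' * t := by rw [← e, v0, v1, hkk]
  have hrv : r * v' = v' * r := by
    have hy : r = y1 * t⁻¹ := by rw [htdef]; group
    rw [hy]
    calc y1 * t⁻¹ * v' = y1 * t⁻¹ * (v' * t) * t⁻¹ := by group
      _ = y1 * t⁻¹ * (t * v') * t⁻¹ := by rw [htv]
      _ = (y1 * v') * t⁻¹ := by group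
      _ = v' * (y1 * t⁻¹) := by rw [hyv]; group
  obtain ⟨ri, rj, rk, hrel⟩ : ∃ i j k, el a b z (i, j, k) = r := ⟨_, _, _, el_crd h hr⟩
  have hdet : i * rj - j * ri = 0 := by
    rw [← hrel, hv'def, commutator_el h i j (-(i * j)) ri rj rk] at hrv
    exact pw_eq_one hz3 h.hz1 (mul_eq_left.mp hrv)
  obtain ⟨l, hl1, hl2⟩ := k3_prop i j ri rj hij hdet
  have hyr : y1 * r = r * y1 := by
    have hm : ∃ m, r = pw v' l * pw z m := by
      obtain ⟨p1, p2, p3, hp'⟩ : ∃ i j k, el a b z (i, j, k) = pw v' l :=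
        ⟨_, _, _, el_crd h (pw_mem (el_mem h _) l)⟩
      have hvp := congrArg (vec a b z) hp'
      rw [vec_el h, vec_pw h (el_mem h _), vec_el h] at hvp
      have e0 := congrFun hvp 0
      have e1 := congrFun hvp 1
      simp at e0 e1
      refine ⟨rk - p3, ?_⟩
      rw [← hp', hzel, el_mul h, ← hrel, e0, e1, hl1, hl2]
      simp
    obtain ⟨m, hm⟩ := hm
    have hc : Commute y1 (pw v' l) := (show Commute y1 v' from hyv).pow_right _
    rw [hm, ← mul_assoc, hc.eq, mul_assoc, zcomm y1, ← mul_assoc]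
  have ht3 : t ^ 3 = 1 := by
    have hc : Commute r⁻¹ y1 := (show Commute r y1 from hyr.symm).inv_left
    rw [htdef, hc.mul_pow, inv_pow, hexp r hr, inv_one, hE3 y1 hy1E, one_mul]
  have hμt : μ t ≠ 1 := by
    intro e
    apply hy1R
    rw [← μker, MonoidHom.mem_ker]
    rw [htdef, map_mul, μR _ (inv_mem hr), one_mul] at e
    exact e
  -- transfer
  let tC : Cs := ⟨t, (memCs t).mpr hp.eq⟩
  let zC : Cs := ⟨z, (memCs z).mpr (by
    calc s * z = s * z * s⁻¹ * s := by group
      _ = z * s := by rw [zc s])⟩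
  have tC3 : tC ^ 3 = 1 := Subtype.ext ht3
  have zC3 : zC ^ 3 = 1 := Subtype.ext hz3
  have zCc : ∀ w : Cs, w * zC = zC * w := fun w => Subtype.ext (by
    calc (w : X) * z = w * z * (w : X)⁻¹ * w := by group
      _ = z * w := by rw [zc])
  have cpwz : ∀ (w : Cs) (m : K3), w * pw zC m = pw zC m * w := fun w m =>
    ((show Commute w zC from zCc w).pow_right m.val).eq
  let hP : Multiplicative (K3 × K3) →* Cs :=
    { toFun := fun p => pw zC p.toAdd.1 * pw tC p.toAdd.2
      map_one' := by simp [pw_zero]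
      map_mul' := fun p q => by
        simp only [toAdd_mul, Prod.fst_add, Prod.snd_add]
        rw [← pw_add zC3, ← pw_add tC3]
        calc pw zC p.toAdd.1 * pw zC q.toAdd.1 * (pw tC p.toAdd.2 * pw tC q.toAdd.2)
            = pw zC p.toAdd.1 * (pw zC q.toAdd.1 * pw tC p.toAdd.2) * pw tC q.toAdd.2 := by group
          _ = _ := by rw [← cpwz (pw tC p.toAdd.2) q.toAdd.1]; group }
  have hPinj : Function.Injective hP := by
    rw [injective_iff_map_eq_one]
    intro p hp'
    obtain ⟨⟨m, n⟩, rfl⟩ : ∃ q, p = Multiplicative.ofAdd q := ⟨p.toAdd, rfl⟩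
    have h1 : pw z m * pw t n = 1 := congrArg Subtype.val hp'
    have hn0 : n = 0 := by
      have h2 := congrArg μ h1
      rw [map_one, map_mul, μR _ (pw_mem h.hz _), one_mul] at h2
      apply pw_eq_one (x := μ t) (by rw [← map_pow, ht3, map_one]) hμt
      rw [← h2, pw, pw, map_pow]
    subst hn0
    rw [pw_zero, mul_one] at h1
    rw [pw_eq_one hz3 h.hz1 h1]
    rfl
  let ϕ : hP.range →* Multiplicative K3 :=
    (AddMonoidHom.toMultiplicative (AddMonoidHom.fst K3 K3)).comp
      (MonoidHom.ofInjective hPinj).symm.toMonoidHom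
  let τ : Cs →* Multiplicative K3 := MonoidHom.transfer ϕ
  let μC : Cs →* SL3 := μ.comp Cs.subtype
  have μCsurj : Function.Surjective μC := by
    intro g
    obtain ⟨x, rfl⟩ := μsurj g
    obtain ⟨r, hr, hc⟩ := cover x
    refine ⟨⟨r⁻¹ * x, (memCs _).mpr hc.eq⟩, ?_⟩
    show μ (r⁻¹ * x) = μ x
    rw [map_mul, μR _ (inv_mem hr), one_mul]
  have kerC : ∀ w : Cs, μC w = 1 → ∃ m, w = pw zC m := by
    intro w hw
    have hwR : (w : X) ∈ R := by rw [← μker]; exact hw
    obtain ⟨m, hm⟩ := fixR w hwR ((memCs _).mp w.2)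
    exact ⟨m, Subtype.ext hm⟩
  have hcardC : Nat.card Cs = 72 := by
    have hk : Nat.card μC.ker = 3 := by
      have hb : Function.Bijective (fun m : K3 => (⟨pw zC m, by
          show μ ((pw zC m : Cs) : X) = 1
          exact μR _ (by simpa [pw] using pw_mem h.hz m)⟩ : μC.ker)) := by
        constructor
        · intro m m' e
          have e' : pw zC m = pw zC m' := congrArg Subtype.val e
          have : pw zC (m - m') = 1 := by
            rw [sub_eq_add_neg, ← pw_add zC3, e', pw_add zC3, add_neg_cancel, pw_zero]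
          exact sub_eq_zero.mp (pw_eq_one zC3 (fun e => h.hz1 (congrArg Subtype.val e)) this)
        · intro w
          obtain ⟨m, hm⟩ := kerC w.1 w.2
          exact ⟨m, Subtype.ext hm.symm⟩
      rw [← Nat.card_eq_of_bijective _ hb, Nat.card_zmod]
    rw [Subgroup.card_eq_card_quotient_mul_card_subgroup μC.ker, hk,
      Nat.card_congr (QuotientGroup.quotientKerEquivOfSurjective μC μCsurj).toEquiv, sl_card]
  have hidx : hP.range.index = 8 := by
    have h1 := Subgroup.card_mul_index hP.range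
    rw [← Nat.card_congr (MonoidHom.ofInjective hPinj).toEquiv, Nat.card_congr Multiplicative.toAdd,
      Nat.card_prod, Nat.card_zmod, hcardC] at h1
    omega
  have τz : ∀ m : K3, τ (pw zC m) = Multiplicative.ofAdd (8 * m) := by
    intro m
    have e : τ (pw zC m) = ϕ ⟨pw zC m ^ hP.range.index, _⟩ :=
      MonoidHom.transfer_eq_pow ϕ (pw zC m) (fun n g0 _ => by
        have hc : Commute g0 (pw zC m ^ n) :=
          (show Commute g0 (pw zC m) from cpwz g0 m).pow_right n
        rw [mul_assoc, ← hc.eq, inv_mul_cancel_left])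
    rw [e]
    have hval : (⟨pw zC m ^ hP.range.index, MonoidHom.transfer_eq_pow_aux _ (fun n g0 _ => by
        have hc : Commute g0 (pw zC m ^ n) :=
          (show Commute g0 (pw zC m) from cpwz g0 m).pow_right n
        rw [mul_assoc, ← hc.eq, inv_mul_cancel_left])⟩ : hP.range) =
        MonoidHom.ofInjective hPinj (Multiplicative.ofAdd (8 * m, 0)) := by
      apply Subtype.ext
      show pw zC m ^ hP.range.index = pw zC (8 * m) * pw tC 0
      rw [pw_zero, mul_one, hidx, pw, ← pow_mul, pw_nat zC3, Nat.cast_mul,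
        ZMod.natCast_zmod_val, mul_comm]
      rfl
    simp only [ϕ, MonoidHom.comp_apply, MulEquiv.coe_toMonoidHom]
    rw [hval, MulEquiv.symm_apply_apply]
    rfl
  have uniq : ∀ w w' : Cs, μC w = μC w' → τ w = τ w' → w = w' := by
    intro w w' h1 h2
    obtain ⟨m, hm⟩ := kerC (w * w'⁻¹) (by rw [map_mul, map_inv, h1, mul_inv_cancel])
    have h3 : τ (pw zC m) = 1 := by rw [← hm, map_mul, map_inv, h2, mul_inv_cancel]
    rw [τz] at h3
    have h4 : ∀ m : K3, 8 * m = 0 → m = 0 := by decide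
    rw [h4 m (Multiplicative.ofAdd.injective h3), pw_zero] at hm
    exact mul_inv_eq_one.mp hm
  have ex : ∀ g : SL3, ∃ w : Cs, μC w = g ∧ τ w = 1 := by
    intro g
    obtain ⟨w, hw⟩ := μCsurj g
    refine ⟨w * pw zC (τ w).toAdd, ?_, ?_⟩
    · rw [map_mul, hw, show μC (pw zC (τ w).toAdd) = 1 from μR _ (by
        simpa [pw] using pw_mem h.hz _), mul_one]
    · rw [map_mul, τz]
      have h8 : ∀ m : K3, m + 8 * m = 0 := by decide
      exact Multiplicative.toAdd.injective (h8 _)
  choose σ0 hσ1 hσ2 using ex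
  let σ : SL3 →* X := Cs.subtype.comp
    { toFun := σ0
      map_one' := uniq _ _ (by rw [hσ1, map_one]) (by rw [hσ2, map_one])
      map_mul' := fun g g' => uniq _ _ (by rw [hσ1, map_mul, hσ1, hσ1])
        (by rw [hσ2, map_mul, hσ2, hσ2, one_mul]) }
  refine ⟨a, b, z, s, σ, h, zc, hka, hkb, fun g => (memCs _).mp (σ0 g).2, fun g => ?_, fun x => ?_⟩
  · rw [acteq]
    exact congrArg Subtype.val (hσ1 g)
  · refine ⟨μ x, ?_⟩
    rw [← μker, MonoidHom.mem_ker, map_mul, map_inv, mul_inv_eq_one]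
    exact (hσ1 (μ x)).symm

end Cfsg.Agent.Cent648
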