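import Mathlib
import Cfsg.Prelude.Def_Classical
import Cfsg.Agent.Cent648.Model
import Cfsg.Agent.Cent648.Structure
import Cfsg.Agent.Fg24.SignSets.Symp

/-! The group of order 648 as the centraliser of a transvection in `PSp(4,3)`. -/

set_option autoImplicit false

namespace Cfsg.Agent.Cent648

open Matrix

local notation "K3" => ZMod 3
local notation "SL3" => Matrix.SpecialLinearGroup (Fin 2) (ZMod 3)

theorem k3_units : ∀ v : K3, v ≠ 0 → v = 1 ∨ v = -1 := by decide

theorem k3_three : (1 + 1 + 1 : K3) = 0 := by decide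

variable {X : Type*} [Group X] [Finite X] {F : Type*} [Field F] (ι : K3 →+* F)

theorem det_map (g : SL3) : ((g : Matrix (Fin 2) (Fin 2) K3).map ι).det = 1 := by
  rw [Matrix.det_fin_two]
  have := g.2
  rw [Matrix.det_fin_two] at this
  simpa [← map_mul, ← map_sub] using congrArg ι this

/-- The matrix attached to a pair consisting of coordinates and an element of `SL(2,3)`. -/
def mat (p : (K3 × K3 × K3) × SL3) : Matrix (Fin 2 ⊕ Fin 2) (Fin 2 ⊕ Fin 2) F :=
  heis (ι p.1.1) (ι p.1.2.1) (ι (p.1.1 * p.1.2.1 + p.1.2.2)) *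
    levi ((p.2 : Matrix (Fin 2) (Fin 2) K3).map ι)

theorem mat_mem (p : (K3 × K3 × K3) × SL3) : mat ι p ∈ Matrix.symplecticGroup (Fin 2) F :=
  mul_mem (heis_mem _ _ _) (levi_mem _ (det_map ι p.2))

theorem mat_inj {p q : (K3 × K3 × K3) × SL3} (h : mat ι p = mat ι q) : p = q := by
  obtain ⟨h1, h2, h3, h4⟩ := params h
  have hi := ι.injective
  have e1 := hi h1
  have e2 := hi h2
  have e3 := hi h3
  rw [e1, e2] at e3
  refine Prod.ext (Prod.ext e1 (Prod.ext e2 (add_left_cancel e3))) (Subtype.ext ?_)
  exact Matrix.map_injective hi h4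

theorem exists_hom {R : Subgroup X} {a b z s : X} {σ : SL3 →* X} (h : Split R a b z s σ) :
    ∃ ρ : X →* Matrix.symplecticGroup (Fin 2) F, Function.Injective ρ ∧
      ∀ x, ∃ p, (ρ x).1 = mat ι p := by
  classical
  have hf := h.frame
  have hn := hf.normal
  choose g hg using h.exists_mul
  have hact : ∀ x, act a b z x = (g x : Matrix (Fin 2) (Fin 2) K3) := by
    intro x
    have e : x = x * (σ (g x))⁻¹ * σ (g x) := by group
    rw [e, act_mul hf, act_of_mem hf (hg x), one_mul, h.act_σ]
    rw [← e]
  have gmul : ∀ x y, g (x * y) = g x * g y := fun x y => Subtype.ext (by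
    show (g (x * y) : Matrix (Fin 2) (Fin 2) K3) =
      (g x : Matrix (Fin 2) (Fin 2) K3) * (g y : Matrix (Fin 2) (Fin 2) K3)
    rw [← hact, ← hact, ← hact, act_mul hf])
  let r : X → X := fun x => x * (σ (g x))⁻¹
  let P : X → (K3 × K3 × K3) × SL3 := fun x => (crd a b z (r x), g x)
  have conjP : ∀ (u : SL3) (i j k : K3),
      crd a b z (σ u * el a b z (i, j, k) * (σ u)⁻¹) =
        (u.1 0 0 * i + u.1 0 1 * j, u.1 1 0 * i + u.1 1 1 * j,
          k + i * j - (u.1 0 0 * i + u.1 0 1 * j) * (u.1 1 0 * i + u.1 1 1 * j)) := by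
    intro u i j k
    have hsel : ∀ i j k, s * el a b z (i, j, k) * s⁻¹ = el a b z (-i, -j, k) := by
      intro i j k
      rw [show s * el a b z (i, j, k) * s⁻¹ =
        (s * pw a i * s⁻¹) * (s * pw b j * s⁻¹) * (s * pw z k * s⁻¹) by simp only [el]; group,
        conj_pw, conj_pw, conj_pw, h.sa, h.sb, h.central s, pw_inv (hf.exp _ hf.ha),
        pw_inv (hf.exp _ hf.hb)]
      rfl
    have hsplit : el a b z (i, j, k) = el a b z (i, j, -(i * j)) * el a b z (0, 0, k + i * j) := by
      rw [el_mul hf]; simp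
    obtain ⟨i', j', k', e⟩ : ∃ i' j' k',
        el a b z (i', j', k') = σ u * el a b z (i, j, -(i * j)) * (σ u)⁻¹ :=
      ⟨_, _, _, el_crd hf (hn.conj_mem _ (el_mem hf _) _)⟩
    have hv := vec_conj hf (σ u) (el_mem hf (i, j, -(i * j)))
    rw [← e, vec_el hf, vec_el hf, h.act_σ] at hv
    have v0 := congrFun hv 0
    have v1 := congrFun hv 1
    simp [Matrix.mulVec, dotProduct, Fin.sum_univ_two] at v0 v1
    have hinv : s * el a b z (i', j', k') * s⁻¹ = (el a b z (i', j', k'))⁻¹ := by
      rw [e]
      have h1 : s * el a b z (i, j, -(i * j)) * s⁻¹ = (el a b z (i, j, -(i * j)))⁻¹ := by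
        rw [hsel, el_inv hf]
        congr 1
        simp only [Prod.mk.injEq]
        refine ⟨trivial, trivial, ?_⟩
        have h3 : (3 : K3) = 0 := by decide
        linear_combination -(i * j) * h3
      calc s * (σ u * el a b z (i, j, -(i * j)) * (σ u)⁻¹) * s⁻¹
          = (s * σ u) * el a b z (i, j, -(i * j)) * (s * σ u)⁻¹ := by group
        _ = σ u * (s * el a b z (i, j, -(i * j)) * s⁻¹) * (σ u)⁻¹ := by
            rw [(h.comm u).eq]; group
        _ = _ := by rw [h1]; group
    rw [hsel, el_inv hf] at hinv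
    have hk := el_inj hf hinv
    simp only [Prod.mk.injEq] at hk
    have hk' : k' = -(i' * j') := by
      have h3 : (3 : K3) = 0 := by decide
      linear_combination (-1 : K3) * hk.2.2 + k' * h3
    have hz0 : σ u * el a b z (0, 0, k + i * j) * (σ u)⁻¹ = el a b z (0, 0, k + i * j) := by
      rw [show el a b z (0, 0, k + i * j) = pw z (k + i * j) by simp [el, pw_zero], conj_pw,
        h.central]
    rw [hsplit, show σ u * (el a b z (i, j, -(i * j)) * el a b z (0, 0, k + i * j)) * (σ u)⁻¹ =
      (σ u * el a b z (i, j, -(i * j)) * (σ u)⁻¹) *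
        (σ u * el a b z (0, 0, k + i * j) * (σ u)⁻¹) by group, ← e, hz0, el_mul hf, crd_el hf,
      hk', v0, v1]
    simp only [Prod.mk.injEq]
    exact ⟨by ring, by ring, by ring⟩
  have hmul : ∀ x y, mat ι (P (x * y)) = mat ι (P x) * mat ι (P y) := by
    intro x y
    obtain ⟨i, j, k, e⟩ : ∃ i j k, el a b z (i, j, k) = r x := ⟨_, _, _, el_crd hf (hg x)⟩
    obtain ⟨i', j', k', e'⟩ : ∃ i j k, el a b z (i, j, k) = r y := ⟨_, _, _, el_crd hf (hg y)⟩
    have hr : r (x * y) = r x * (σ (g x) * r y * (σ (g x))⁻¹) := by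
      show x * y * (σ (g (x * y)))⁻¹ = _
      rw [gmul, map_mul]
      simp only [r]
      group
    obtain ⟨i'', j'', k'', e''⟩ : ∃ i' j' k'', el a b z (i', j', k'') =
        σ (g x) * r y * (σ (g x))⁻¹ :=
      ⟨_, _, _, el_crd hf (hn.conj_mem _ (hg y) _)⟩
    have hc : (i'', j'', k'') = crd a b z (σ (g x) * el a b z (i', j', k') * (σ (g x))⁻¹) := by
      rw [e', ← e'', crd_el hf]
    rw [conjP] at hc
    simp only [Prod.mk.injEq] at hc
    have hP : crd a b z (r (x * y)) = (i + i'', j + j'', k + k'' + j * i'') := by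
      rw [hr, ← e, ← e'', el_mul hf, crd_el hf]
    simp only [mat, P, hP, gmul]
    rw [← e, ← e', crd_el hf, crd_el hf, Matrix.SpecialLinearGroup.coe_mul, Matrix.map_mul,
      ← levi_mul]
    set M := (g x : Matrix (Fin 2) (Fin 2) K3)
    rw [mul_assoc (heis (ι i) _ _) (levi (M.map ι)), ← mul_assoc (levi (M.map ι)) (heis _ _ _),
      levi_heis _ (det_map ι (g x)), mul_assoc (heis _ _ _) (levi (M.map ι)),
      ← mul_assoc (heis (ι i) _ _) (heis _ _ _), heis_mul]
    obtain ⟨c1, c2, c3⟩ := hc
    have h3 : (3 : K3) = 0 := by decide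
    have hlast : (i + i'') * (j + j'') + (k + k'' + j * i'') =
        i * j + k + (i' * j' + k') + i * j'' - j * i'' := by
      rw [c3, ← c1, ← c2]
      linear_combination j * i'' * h3
    have hA : (M.map ι) 0 0 * ι i' + (M.map ι) 0 1 * ι j' = ι i'' := by
      rw [c1]; simp [M, map_add, map_mul]
    have hB : (M.map ι) 1 0 * ι i' + (M.map ι) 1 1 * ι j' = ι j'' := by
      rw [c2]; simp [M, map_add, map_mul]
    rw [hA, hB, hlast]
    simp only [map_add, map_mul, map_sub]
  have hinj : ∀ x y, mat ι (P x) = mat ι (P y) → x = y := by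
    intro x y hxy
    have := mat_inj ι hxy
    simp only [P, Prod.mk.injEq] at this
    have e1 := el_crd hf (hg x)
    have e2 := el_crd hf (hg y)
    rw [this.1] at e1
    have : x * (σ (g x))⁻¹ = y * (σ (g y))⁻¹ := e1.symm.trans e2
    rw [‹crd a b z (r x) = crd a b z (r y) ∧ g x = g y›.2] at this
    exact mul_right_cancel this
  let ρ : X →* Matrix.symplecticGroup (Fin 2) F :=
    MonoidHom.mk' (fun x => ⟨mat ι (P x), mat_mem ι _⟩) (fun x y => Subtype.ext (hmul x y))
  exact ⟨ρ, fun x y e => hinj x y (congrArg Subtype.val e), fun x => ⟨P x, rfl⟩⟩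

theorem card_X {R : Subgroup X} {a b z s : X} {σ : SL3 →* X} (h : Split R a b z s σ) :
    Nat.card X = Nat.card ((K3 × K3 × K3) × SL3) := by
  have hf := h.frame
  let m : (K3 × K3 × K3) × SL3 → X := fun p => el a b z p.1 * σ p.2
  refine (Nat.card_eq_of_bijective m ⟨?_, ?_⟩).symm
  · rintro ⟨p, u⟩ ⟨q, v⟩ e
    have hu : u = v := by
      have h1 := congrArg (act a b z) e
      simp only [m, act_mul hf, act_of_mem hf (el_mem hf _), one_mul, h.act_σ] at h1
      exact Subtype.ext h1
    subst hu
    exact Prod.ext (el_inj hf (mul_right_cancel e)) rfl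
  · intro x
    obtain ⟨u, hu⟩ := h.exists_mul x
    refine ⟨(crd a b z (x * (σ u)⁻¹), u), ?_⟩
    simp only [m, el_crd hf hu, inv_mul_cancel_right]

/-- The centraliser of the central transvection. -/
theorem exists_iso {R : Subgroup X} {a b z s : X} {σ : SL3 →* X} (h : Split R a b z s σ)
    [Fintype F] (hF : Fintype.card F = 3) (ι : K3 →+* F) :
    ∃ c : Cfsg.PSp 2 F, orderOf c = 3 ∧
      Nonempty (X ≃* Subgroup.centralizer ({c} : Set (Cfsg.PSp 2 F))) ∧
      ∃ S : Sylow 3 (Cfsg.PSp 2 F), c ∈ (S : Subgroup (Cfsg.PSp 2 F)) ∧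
        c ∈ Subgroup.centralizer ((S : Subgroup (Cfsg.PSp 2 F)) : Set (Cfsg.PSp 2 F)) := by
  classical
  haveI : Fact (Nat.Prime 3) := ⟨by norm_num⟩
  have hodd : Odd (Fintype.card F) := by rw [hF]; decide
  have h2 : (2 : F) ≠ 0 := Classical.two_ne_zero_of_odd hodd
  have ιsurj : Function.Surjective ι := by
    apply ((Nat.bijective_iff_injective_and_card ι).mpr ⟨ι.injective, ?_⟩).surjective
    rw [Nat.card_zmod, Nat.card_eq_fintype_card, hF]
  obtain ⟨ρ, ρinj, ρmat⟩ := exists_hom ι h
  let G := Matrix.symplecticGroup (Fin 2) F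
  let π : G →* Cfsg.PSp 2 F := QuotientGroup.mk' (Subgroup.center G)
  have ρsurj : ∀ p, ∃ x, (ρ x).1 = mat ι p := by
    choose P hP using ρmat
    have hb : Function.Bijective P := by
      refine (Nat.bijective_iff_injective_and_card P).mpr ⟨fun x y e => ρinj (Subtype.ext ?_), card_X h⟩
      rw [hP x, hP y, e]
    intro p
    obtain ⟨x, rfl⟩ := hb.surjective p
    exact ⟨x, hP x⟩
  have fix : ∀ p, mat ι p (Sum.inl 0) (Sum.inl 0) = 1 := fun p => by
    simp [mat, heis, levi, Matrix.mul_apply, Fin.sum_univ_two]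
  -- the transvection
  let C0 : G := ⟨heis 0 0 1, heis_mem _ _ _⟩
  have hC0 : ∀ p, Commute C0.1 (mat ι p) := by
    intro p
    show heis 0 0 1 * _ = _ * heis 0 0 1
    simp only [mat]
    rw [← mul_assoc, heis_mul, mul_assoc, levi_heis _ (det_map ι p.2), ← mul_assoc, heis_mul]
    congr 1
    simp
    ring_nf
  let c : Cfsg.PSp 2 F := π C0
  have kerπ : ∀ g : G, π g = 1 → g = 1 ∨ g = Fg24.SignSets.negOne F 2 := fun g hg =>
    Fg24.SignSets.center_cases hodd (by norm_num)
      (by rwa [← MonoidHom.mem_ker, QuotientGroup.ker_mk'] at hg)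
  let f : X →* Cfsg.PSp 2 F := π.comp ρ
  have finj : Function.Injective f := by
    rw [injective_iff_map_eq_one]
    intro x hx
    rcases kerπ (ρ x) hx with e | e
    · exact ρinj (by rw [e, map_one])
    · exfalso
      obtain ⟨p, hp⟩ := ρmat x
      have := congrFun (congrFun (congrArg Subtype.val e) (Sum.inl 0)) (Sum.inl 0)
      rw [hp, fix p] at this
      simp [Fg24.SignSets.negOne] at this
      exact h2 (by linear_combination this)
  have hrange : f.range = Subgroup.centralizer ({c} : Set (Cfsg.PSp 2 F)) := by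
    apply le_antisymm
    · rintro _ ⟨x, rfl⟩
      rw [Subgroup.mem_centralizer_singleton_iff]
      obtain ⟨p, hp⟩ := ρmat x
      have : C0 * ρ x = ρ x * C0 := Subtype.ext (by
        show C0.1 * (ρ x).1 = (ρ x).1 * C0.1
        rw [hp]; exact hC0 p)
      show π (ρ x) * π C0 = π C0 * π (ρ x)
      rw [← map_mul, ← map_mul, this]
    · intro y hy
      rw [Subgroup.mem_centralizer_singleton_iff] at hy
      obtain ⟨g, rfl⟩ := QuotientGroup.mk'_surjective (Subgroup.center G) y
      have hz : π ((C0 * g)⁻¹ * (g * C0)) = 1 := by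
        rw [map_mul, map_inv, map_mul, map_mul, inv_mul_eq_one]
        exact hy.symm
      have hcomm : g * C0 = C0 * g := by
        rcases kerπ _ hz with e | e
        · exact (inv_mul_eq_one.mp e).symm
        · exfalso
          have e2 : g * C0 = C0 * g * Fg24.SignSets.negOne F 2 := by rw [← e, mul_inv_cancel_left]
          have e3 : g.1 * heis 0 0 1 = - (heis 0 0 1 * g.1) := by
            have := congrArg Subtype.val e2
            simpa [Fg24.SignSets.negOne, C0] using this
          -- the transvection squared acts as `2 t - 1`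
          have q := fun i j => congrFun (congrFun e3 i) j
          have c0 : ∀ i, g.1 i (Sum.inl 0) = 0 := by
            intro i
            have h1 := q i (Sum.inl 0)
            rcases i with i | i <;> fin_cases i <;>
              simp [heis, Matrix.mul_apply, Fintype.sum_sum_type, Fin.sum_univ_two] at h1 ⊢
            all_goals
              first
                | exact (mul_eq_zero.mp (show (2 : F) * _ = 0 by linear_combination h1)).resolve_left h2
                | (have h1' := q (Sum.inr 0) (Sum.inl 0)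
                   simp [heis, Matrix.mul_apply, Fintype.sum_sum_type, Fin.sum_univ_two] at h1'
                   have h0 : g.1 (Sum.inr 0) (Sum.inl 0) = 0 :=
                     (mul_eq_zero.mp (show (2 : F) * _ = 0 by linear_combination h1')).resolve_left h2
                   exact (mul_eq_zero.mp (show (2 : F) * _ = 0 by
                     linear_combination h1 - h0)).resolve_left h2)
          have h1 : g⁻¹.1 * g.1 = 1 := by
            show (g⁻¹ * g).1 = 1
            rw [inv_mul_cancel]; rfl
          have := congrFun (congrFun h1 (Sum.inl 0)) (Sum.inl 0)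
          simp [Matrix.mul_apply, c0] at this
      have hm : g.1 * heis 0 0 1 = heis 0 0 1 * g.1 := congrArg Subtype.val hcomm
      obtain ⟨h10, h20, h30⟩ := col_of_comm hm
      have hne : g.1 (Sum.inl 0) (Sum.inl 0) ≠ 0 := by
        intro h0
        have h1 : g⁻¹.1 * g.1 = 1 := by
          show (g⁻¹ * g).1 = 1
          rw [inv_mul_cancel]; rfl
        have := congrFun (congrFun h1 (Sum.inl 0)) (Sum.inl 0)
        simp [Matrix.mul_apply, Fintype.sum_sum_type, Fin.sum_univ_two, h0, h10, h20, h30] at this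
      have main : ∀ g' : G, g'.1 (Sum.inl 0) (Sum.inl 0) = 1 → g'.1 (Sum.inl 1) (Sum.inl 0) = 0 →
          g'.1 (Sum.inr 0) (Sum.inl 0) = 0 → g'.1 (Sum.inr 1) (Sum.inl 0) = 0 →
          π g' ∈ f.range := by
        intro g' e0 e1 e2 e3
        obtain ⟨u0, u1, u2, M, hM, hg'⟩ := exists_params g'.2 e0 e1 e2 e3
        obtain ⟨i, rfl⟩ := ιsurj u0
        obtain ⟨j, rfl⟩ := ιsurj u1
        obtain ⟨k, rfl⟩ := ιsurj u2
        choose N hN using fun m n => ιsurj (M m n)
        have hMN : (Matrix.of N).map ι = M := by ext m n; exact hN m n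
        have hdet : (Matrix.of N).det = 1 := by
          apply ι.injective
          rw [RingHom.map_det, map_one, RingHom.mapMatrix_apply, hMN, hM]
        obtain ⟨x, hx⟩ := ρsurj ((i, j, k - i * j), ⟨Matrix.of N, hdet⟩)
        refine ⟨x, congrArg π (Subtype.ext ?_)⟩
        rw [hx, hg', mat]
        simp only [hMN, show i * j + (k - i * j) = k by ring]
      have hcases : g.1 (Sum.inl 0) (Sum.inl 0) = 1 ∨ g.1 (Sum.inl 0) (Sum.inl 0) = -1 := by
        obtain ⟨v, hv⟩ := ιsurj (g.1 (Sum.inl 0) (Sum.inl 0))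
        rcases k3_units v (fun e => hne (by rw [← hv, e, map_zero])) with rfl | rfl
        · left; rw [← hv, map_one]
        · right; rw [← hv, map_neg, map_one]
      rcases hcases with e | e
      · exact main g e h10 h20 h30
      · have hne1 : π (Fg24.SignSets.negOne F 2) = 1 := by
          rw [← MonoidHom.mem_ker, QuotientGroup.ker_mk']
          exact Fg24.SignSets.negOne_mem_center
        have := main (g * Fg24.SignSets.negOne F 2)
          (by simp [Fg24.SignSets.negOne, e]) (by simp [Fg24.SignSets.negOne, h10])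
          (by simp [Fg24.SignSets.negOne, h20]) (by simp [Fg24.SignSets.negOne, h30])
        rwa [map_mul, hne1, mul_one] at this
  have hcord : orderOf c = 3 := by
    apply orderOf_eq_prime
    · show π C0 ^ 3 = 1
      rw [← map_pow]
      convert map_one π
      apply Subtype.ext
      show heis (0 : F) 0 1 ^ 3 = 1
      rw [pow_succ, pow_two, heis_mul, heis_mul]
      have h3 : (1 + 1 + 1 : F) = 0 := by
        have := congrArg ι k3_three
        simpa using this
      simp [h3, heis_zero]
    · intro hc1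
      rcases kerπ C0 hc1 with e | e
      · have := congrFun (congrFun (congrArg Subtype.val e) (Sum.inl 0)) (Sum.inr 0)
        simp [C0, heis] at this
      · have := congrFun (congrFun (congrArg Subtype.val e) (Sum.inl 0)) (Sum.inl 0)
        simp [C0, heis, Fg24.SignSets.negOne] at this
        exact h2 (by linear_combination this)
  refine ⟨c, hcord, ⟨(MonoidHom.ofInjective finj).trans (MulEquiv.subgroupCongr hrange)⟩, ?_⟩
  -- the Sylow subgroup
  set C := Subgroup.centralizer ({c} : Set (Cfsg.PSp 2 F)) with hCdef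
  have hCcard : Nat.card C = 648 := by
    rw [← hrange, ← Nat.card_congr (MonoidHom.ofInjective finj).toEquiv, card_X h, Nat.card_prod,
      Nat.card_prod, Nat.card_prod, Nat.card_zmod, sl_card]
  have hGcard : Nat.card (Cfsg.PSp 2 F) = 25920 := by
    have h1 := Subgroup.card_eq_card_quotient_mul_card_subgroup (Subgroup.center G)
    rw [Classical.card_symplecticGroup hF, Classical.card_center_symplectic (by norm_num), hF] at h1
    norm_num [Finset.prod_range_succ, -Nat.card_eq_fintype_card] at h1
    show Nat.card (G ⧸ Subgroup.center G) = 25920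
    omega
  let Q : Sylow 3 C := default
  have hQ : Nat.card (Q : Subgroup C) = 81 := by
    rw [Sylow.card_eq_multiplicity, hCcard]
    have : (648 : ℕ).factorization 3 = 4 := by
      rw [Nat.factorization_def _ (by norm_num)]
      have e : (648 : ℕ) = 3 ^ 4 * 8 := by norm_num
      rw [e, padicValNat.mul (by norm_num) (by norm_num), padicValNat.prime_pow,
        padicValNat.eq_zero_of_not_dvd (by norm_num)]
    rw [this]; norm_num
  have hGfac : (25920 : ℕ).factorization 3 = 4 := by
    rw [Nat.factorization_def _ (by norm_num)]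
    have e : (25920 : ℕ) = 3 ^ 4 * 320 := by norm_num
    rw [e, padicValNat.mul (by norm_num) (by norm_num), padicValNat.prime_pow,
      padicValNat.eq_zero_of_not_dvd (by norm_num)]
  let S : Sylow 3 (Cfsg.PSp 2 F) := Sylow.ofCard ((Q : Subgroup C).map C.subtype) (by
    rw [Subgroup.card_map_of_injective C.subtype_injective, hQ, hGcard, hGfac]; norm_num)
  have hSC : (S : Subgroup (Cfsg.PSp 2 F)) ≤ C := Subgroup.map_subtype_le _
  refine ⟨S, ?_, ?_⟩
  · -- `c` is central in `C`, hence lies in each of its Sylow subgroups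
    have hcC : c ∈ C := Subgroup.mem_centralizer_singleton_iff.mpr rfl
    have hcen : (⟨c, hcC⟩ : C) ∈ Subgroup.center C := Subgroup.mem_center_iff.mpr fun w =>
      Subtype.ext (Subgroup.mem_centralizer_singleton_iff.mp w.2)
    haveI hnorm : (Subgroup.zpowers (⟨c, hcC⟩ : C)).Normal := ⟨fun n hn x => by
      obtain ⟨k, rfl⟩ := Subgroup.mem_zpowers_iff.mp hn
      rw [Subgroup.mem_center_iff.mp (zpow_mem hcen k) x, mul_inv_cancel_right]
      exact Subgroup.zpow_mem_zpowers _ k⟩
    have hp : IsPGroup 3 (Subgroup.zpowers (⟨c, hcC⟩ : C)) := by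
      refine IsPGroup.of_card (n := 1) ?_
      rw [Nat.card_zpowers, Subgroup.orderOf_mk, hcord, pow_one]
    have hle : Subgroup.zpowers (⟨c, hcC⟩ : C) ≤ (Q : Subgroup C) := by
      obtain ⟨Q1, hQ1⟩ := hp.exists_le_sylow
      obtain ⟨x, hx⟩ := MulAction.exists_smul_eq C Q1 Q
      intro w hw
      rw [← hx, Sylow.coe_subgroup_smul, Subgroup.mem_pointwise_smul_iff_inv_smul_mem]
      apply hQ1
      have := hnorm.conj_mem w hw x⁻¹
      simpa [MulAut.smul_def] using this
    exact ⟨⟨c, hcC⟩, hle (Subgroup.mem_zpowers _), rfl⟩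
  · rw [Subgroup.mem_centralizer_iff]
    intro w hw
    exact Subgroup.mem_centralizer_singleton_iff.mp (hSC hw)

end Cfsg.Agent.Cent648
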